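import Cfsg.Agent.Lib.Helper12.TCG.SuzQc416.TabT

/-! relator checks for SuzQc416, part 1 (generated, helper12) -/

set_option autoImplicit false
set_option maxRecDepth 100000
set_option Elab.async false

namespace Cfsg.Agent.Lib.Helper12.TCG.SuzQc416

open Cfsg.Agent.Lib.Helper12.TC Cfsg.Agent.Lib.Helper12.TCG

theorem hperm1_0 : permPartG 18364758544240419585 TT 1 tN 0 416 = true := by decide +kernel

theorem hperm3_0 : permPartG 18364758544240419585 TT 3 tN 0 416 = true := by decide +kernel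

theorem hperm5_0 : permPartG 18364758544240419585 TT 5 tN 0 416 = true := by decide +kernel

theorem hperm7_0 : permPartG 18364758544240419585 TT 7 tN 0 416 = true := by decide +kernel

theorem hm1 : Fn.marksK TT tN [([2], 7)] = true := by decide +kernel

theorem hm3 : Fn.marksK TT tN [([6], 7)] = true := by decide +kernel

theorem hm6 : Fn.marksK TT tN [([2, 1, 1, 2, 2, 1, 1, 2, 0, 3, 0, 0, 3, 3, 0, 0, 3, 1], 1)] = true := by decide +kernel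

theorem hm8 : Fn.marksK TT tN [([3, 1, 2, 1, 2, 1, 2, 2, 0, 3, 3, 0, 3, 0, 3, 0, 2, 1], 1)] = true := by decide +kernel

theorem hm9 : Fn.marksK TT tN [([0, 2, 0, 0, 3, 1, 1, 1, 2, 0, 0, 0, 2, 1, 1, 3, 1, 3, 3], 1)] = true := by decide +kernel

theorem hm10 : Fn.marksK TT tN [([1, 2, 0, 0, 0, 2, 1, 1, 2, 0, 0, 3, 1, 1, 1, 3, 0, 3, 3], 1)] = true := by decide +kernel

theorem hm12 : Fn.marksK TT tN [([1, 3, 1, 1, 2, 0, 0, 0, 2, 1, 1, 1, 3, 0, 0, 2, 0, 3, 3], 1)] = true := by decide +kernel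

theorem hm14 : Fn.marksK TT tN [([1, 2, 0, 0, 0, 3, 0, 0, 2, 1, 1, 2, 1, 1, 1, 3, 0, 3, 3], 1)] = true := by decide +kernel

theorem hm16 : Fn.marksK TT tN [([3, 0, 2, 2, 2, 1, 2, 2, 0, 3, 3, 0, 3, 3, 3, 1, 2, 1, 1], 1)] = true := by decide +kernel

theorem hm19 : Fn.marksK TT tN [([1, 2, 2, 1, 1, 2, 0, 3, 0, 2, 1, 2, 1, 3, 0, 0, 3, 3, 0, 3], 1)] = true := by decide +kernel

theorem hm21 : Fn.marksK TT tN [([3, 0, 2, 1, 1, 2, 2, 1, 3, 0, 2, 0, 3, 3, 0, 0, 3, 1, 2, 1], 1)] = true := by decide +kernel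

theorem hm23 : Fn.marksK TT tN [([2, 2, 1, 1, 2, 0, 3, 0, 3, 0, 2, 1, 2, 1, 3, 0, 0, 3, 3, 1], 1)] = true := by decide +kernel

theorem hm25 : Fn.marksK TT tN [([2, 2, 1, 1, 3, 3, 3, 3, 3, 0, 2, 2, 2, 2, 2, 0, 0, 3, 3, 1], 1)] = true := by decide +kernel

theorem hm27 : Fn.marksK TT tN [([3, 1, 2, 1, 3, 3, 1, 2, 0, 3, 0, 2, 2, 0, 3, 0, 2, 0, 0, 0], 1)] = true := by decide +kernel

theorem hm30 : Fn.marksK TT tN [([1, 2, 0, 0, 5, 1, 5, 1, 4, 0, 4, 0, 4, 1, 1, 3, 0, 3], 1)] = true := by decide +kernel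

theorem hm32 : Fn.marksK TT tN [([0, 0, 4, 1, 4, 0, 2, 0, 3, 1, 5, 0, 5, 1, 1, 4, 4, 4], 1)] = true := by decide +kernel

theorem hm34 : Fn.marksK TT tN [([3, 1, 2, 1, 2, 1, 2, 2, 4, 3, 3, 0, 3, 0, 3, 0, 2, 5], 1)] = true := by decide +kernel

theorem hm36 : Fn.marksK TT tN [([2, 0, 4, 1, 1, 1, 5, 2, 4, 0, 0, 0, 5, 1, 3, 1, 1, 1], 1)] = true := by decide +kernel

theorem hm38 : Fn.marksK TT tN [([0, 4, 0, 4, 0, 2, 1, 1, 2, 0, 0, 3, 1, 5, 1, 5, 1, 5, 5], 1)] = true := by decide +kernel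

theorem hm40 : Fn.marksK TT tN [([0, 4, 0, 4, 0, 3, 0, 0, 2, 1, 1, 2, 1, 5, 1, 5, 1, 5, 5], 1)] = true := by decide +kernel

theorem hm42 : Fn.marksK TT tN [([0, 3, 4, 1, 2, 0, 3, 4, 1, 2, 0, 5, 2, 1, 3, 0, 5, 2, 1, 3], 1)] = true := by decide +kernel

theorem hm44 : Fn.marksK TT tN [([0, 4, 1, 3, 4, 2, 0, 4, 0, 2, 1, 5, 1, 3, 5, 2, 0, 5, 1, 5], 1)] = true := by decide +kernel

theorem hm46 : Fn.marksK TT tN [([5, 2, 1, 3, 0, 5, 2, 1, 3, 0, 2, 0, 3, 4, 1, 2, 0, 3, 4, 1], 1)] = true := by decide +kernel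

theorem hm48 : Fn.marksK TT tN [([5, 2, 1, 3, 4, 3, 3, 1, 5, 0, 4, 0, 2, 2, 5, 2, 0, 3, 4, 0], 1)] = true := by decide +kernel

theorem hm50 : Fn.marksK TT tN [([0, 4, 3, 0, 3, 1, 2, 0, 5, 0, 4, 1, 3, 0, 2, 1, 2, 5, 1, 3], 1)] = true := by decide +kernel

theorem hm52 : Fn.marksK TT tN [([4, 4, 0, 4, 7, 5, 1, 1, 4, 0, 0, 4, 6, 5, 1, 5, 5, 2], 1)] = true := by decide +kernel

theorem hm54 : Fn.marksK TT tN [([0, 0, 3, 0, 3, 0, 3, 1, 6, 0, 2, 1, 2, 1, 2, 1, 1, 7], 1)] = true := by decide +kernel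

theorem hm56 : Fn.marksK TT tN [([0, 6, 1, 4, 7, 0, 5, 1, 4, 0, 4, 1, 6, 5, 0, 7, 1, 5], 1)] = true := by decide +kernel

theorem hm58 : Fn.marksK TT tN [([1, 1, 4, 7, 0, 5, 6, 0, 4, 1, 7, 4, 1, 6, 5, 0, 0, 5], 1)] = true := by decide +kernel

theorem hm60 : Fn.marksK TT tN [([6, 2, 0, 2, 0, 7, 2, 2, 0, 3, 3, 6, 1, 3, 1, 3, 7, 3], 1)] = true := by decide +kernel

theorem hm62 : Fn.marksK TT tN [([3, 0, 5, 6, 1, 4, 7, 2, 4, 3, 6, 5, 0, 7, 4, 1, 2, 5], 1)] = true := by decide +kernel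

theorem hm64 : Fn.marksK TT tN [([3, 1, 4, 7, 0, 5, 6, 2, 0, 3, 7, 4, 1, 6, 5, 0, 2, 1], 1)] = true := by decide +kernel

theorem hm66 : Fn.marksK TT tN [([3, 1, 4, 7, 0, 5, 6, 2, 6, 3, 7, 4, 1, 6, 5, 0, 2, 7], 1)] = true := by decide +kernel

theorem hm68 : Fn.marksK TT tN [([4, 3, 0, 3, 0, 3, 0, 5, 6, 4, 1, 2, 1, 2, 1, 2, 5, 7], 1)] = true := by decide +kernel

theorem hm70 : Fn.marksK TT tN [([4, 7, 4, 1, 6, 5, 0, 5, 6, 4, 1, 4, 7, 0, 5, 6, 5, 7], 1)] = true := by decide +kernel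

theorem hm71 : Fn.marksK TT tN [([0, 6, 0, 2, 6, 4, 4, 1, 4, 0, 5, 5, 7, 3, 1, 7, 1, 2, 2], 1)] = true := by decide +kernel

theorem hm73 : Fn.marksK TT tN [([5, 0, 6, 2, 2, 4, 2, 5, 2, 4, 3, 5, 3, 3, 7, 1, 4, 3, 3], 1)] = true := by decide +kernel

theorem hm74 : Fn.marksK TT tN [([2, 0, 5, 5, 6, 1, 3, 7, 0, 2, 1, 6, 2, 0, 7, 4, 4, 1, 3, 1], 1)] = true := by decide +kernel

theorem hm76 : Fn.marksK TT tN [([2, 4, 7, 2, 6, 2, 4, 7, 2, 6, 3, 6, 5, 3, 7, 3, 6, 5, 3, 7], 1)] = true := by decide +kernel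

theorem hm78 : Fn.marksK TT tN [([2, 2, 1, 7, 0, 3, 6, 1, 5, 2, 4, 0, 7, 2, 1, 6, 0, 3, 3, 1], 1)] = true := by decide +kernel

theorem hm81 : Fn.marksK TT tN [([1, 0], 1)] = true := by decide +kernel

theorem hm83 : Fn.marksK TT tN [([3, 2], 1)] = true := by decide +kernel

theorem hm85 : Fn.marksK TT tN [([5, 4], 1)] = true := by decide +kernel

theorem hm87 : Fn.marksK TT tN [([7, 6], 1)] = true := by decide +kernel

end Cfsg.Agent.Lib.Helper12.TCG.SuzQc416
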