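import Cfsg.Agent.Lib.Helper12.TCG.SuzQc416.Rel0
import Cfsg.Agent.Lib.Helper12.TCG.SuzQc416.Rel1
import Cfsg.Agent.Lib.Helper12.TCG.SuzQc416.Tab
import Cfsg.Agent.Lib.Helper12.SuzM.Pres4

/-! the permutation representation for SuzQc416 (generated, helper12) -/

set_option autoImplicit false
set_option maxRecDepth 100000
set_option linter.unusedSimpArgs false
set_option Elab.async false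

namespace Cfsg.Agent.Lib.Helper12.TCG.SuzQc416

open Cfsg.Agent.Lib.Helper12.TC Cfsg.Agent.Lib.Helper12.TCG Cfsg.Agent.Lib.Helper12.SuzM.Pres4

theorem htN : tN = cN := rfl

theorem hperm0 : permOneG 18364758544240419585 TT 0 tN = true :=
  permOneG_of_OK (permOK_step hperm0_0 rfl
    (permOK_start 18364758544240419585 TT 0 tN))

theorem hperm1 : permOneG 18364758544240419585 TT 1 tN = true :=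
  permOneG_of_OK (permOK_step hperm1_0 rfl
    (permOK_start 18364758544240419585 TT 1 tN))

theorem hperm2 : permOneG 18364758544240419585 TT 2 tN = true :=
  permOneG_of_OK (permOK_step hperm2_0 rfl
    (permOK_start 18364758544240419585 TT 2 tN))

theorem hperm3 : permOneG 18364758544240419585 TT 3 tN = true :=
  permOneG_of_OK (permOK_step hperm3_0 rfl
    (permOK_start 18364758544240419585 TT 3 tN))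

theorem hperm4 : permOneG 18364758544240419585 TT 4 tN = true :=
  permOneG_of_OK (permOK_step hperm4_0 rfl
    (permOK_start 18364758544240419585 TT 4 tN))

theorem hperm5 : permOneG 18364758544240419585 TT 5 tN = true :=
  permOneG_of_OK (permOK_step hperm5_0 rfl
    (permOK_start 18364758544240419585 TT 5 tN))

theorem hperm6 : permOneG 18364758544240419585 TT 6 tN = true :=
  permOneG_of_OK (permOK_step hperm6_0 rfl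
    (permOK_start 18364758544240419585 TT 6 tN))

theorem hperm7 : permOneG 18364758544240419585 TT 7 tN = true :=
  permOneG_of_OK (permOK_step hperm7_0 rfl
    (permOK_start 18364758544240419585 TT 7 tN))

theorem hperm : permG cIV TT 8 cN = true := by
  refine permG_of_ones (fun x hx => ?_)
  interval_cases x
  · exact hperm0
  · exact hperm1
  · exact hperm2
  · exact hperm3
  · exact hperm4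
  · exact hperm5
  · exact hperm6
  · exact hperm7

/-- words as powers -/
def specs : List (List ℕ × ℕ) :=
  [([0], 7),
   ([2], 7),
   ([4], 7),
   ([6], 7),
   ([0, 0, 3, 0, 3, 0, 3, 1, 2, 0, 2, 1, 2, 1, 2, 1, 1, 3], 1),
   ([3, 0, 0, 3, 3, 0, 0, 3, 0, 2, 1, 1, 2, 2, 1, 1, 2, 1], 1),
   ([2, 1, 1, 2, 2, 1, 1, 2, 0, 3, 0, 0, 3, 3, 0, 0, 3, 1], 1),
   ([2, 0, 3, 0, 3, 1, 2, 2, 0, 3, 3, 0, 2, 1, 2, 1, 3, 1], 1),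
   ([3, 1, 2, 1, 2, 1, 2, 2, 0, 3, 3, 0, 3, 0, 3, 0, 2, 1], 1),
   ([0, 2, 0, 0, 3, 1, 1, 1, 2, 0, 0, 0, 2, 1, 1, 3, 1, 3, 3], 1),
   ([1, 2, 0, 0, 0, 2, 1, 1, 2, 0, 0, 3, 1, 1, 1, 3, 0, 3, 3], 1),
   ([0, 3, 1, 1, 3, 0, 3, 1, 2, 0, 2, 1, 2, 0, 0, 2, 1, 3, 3], 1),
   ([1, 3, 1, 1, 2, 0, 0, 0, 2, 1, 1, 1, 3, 0, 0, 2, 0, 3, 3], 1),
   ([0, 3, 1, 1, 1, 3, 0, 0, 2, 1, 1, 2, 0, 0, 0, 2, 1, 3, 3], 1),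
   ([1, 2, 0, 0, 0, 3, 0, 0, 2, 1, 1, 2, 1, 1, 1, 3, 0, 3, 3], 1),
   ([2, 1, 3, 3, 1, 2, 1, 3, 0, 2, 0, 3, 0, 2, 2, 0, 3, 1, 1], 1),
   ([3, 0, 2, 2, 2, 1, 2, 2, 0, 3, 3, 0, 3, 3, 3, 1, 2, 1, 1], 1),
   ([3, 1, 3, 3, 0, 2, 2, 2, 0, 3, 3, 3, 1, 2, 2, 0, 2, 1, 1], 1),
   ([1, 3, 0, 3, 1, 1, 3, 0, 2, 1, 2, 0, 0, 2, 1, 2, 0, 2, 2, 2], 1),
   ([1, 2, 2, 1, 1, 2, 0, 3, 0, 2, 1, 2, 1, 3, 0, 0, 3, 3, 0, 3], 1),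
   ([2, 2, 2, 0, 3, 3, 1, 3, 0, 2, 0, 2, 2, 1, 3, 3, 3, 0, 0, 0], 1),
   ([3, 0, 2, 1, 1, 2, 2, 1, 3, 0, 2, 0, 3, 3, 0, 0, 3, 1, 2, 1], 1),
   ([2, 1, 1, 2, 2, 1, 3, 0, 3, 0, 2, 1, 2, 0, 3, 3, 0, 0, 3, 1], 1),
   ([2, 2, 1, 1, 2, 0, 3, 0, 3, 0, 2, 1, 2, 1, 3, 0, 0, 3, 3, 1], 1),
   ([3, 1, 2, 2, 1, 1, 2, 0, 3, 0, 2, 1, 3, 0, 0, 3, 3, 0, 2, 1], 1),
   ([2, 2, 1, 1, 3, 3, 3, 3, 3, 0, 2, 2, 2, 2, 2, 0, 0, 3, 3, 1], 1),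
   ([2, 0, 3, 3, 0, 0, 3, 1, 2, 0, 3, 0, 2, 1, 1, 2, 2, 1, 3, 1], 1),
   ([3, 1, 2, 1, 3, 3, 1, 2, 0, 3, 0, 2, 2, 0, 3, 0, 2, 0, 0, 0], 1),
   ([2, 2, 1, 3, 3, 3, 1, 2, 0, 3, 0, 2, 2, 2, 0, 3, 3, 0, 0, 0], 1),
   ([3, 1, 3, 1, 3, 1, 3, 1, 4, 0, 2, 0, 2, 0, 2, 0, 2, 5], 1),
   ([1, 2, 0, 0, 5, 1, 5, 1, 4, 0, 4, 0, 4, 1, 1, 3, 0, 3], 1),
   ([1, 1, 2, 4, 0, 4, 0, 4, 1, 5, 1, 5, 3, 0, 0, 2, 2, 2], 1),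
   ([0, 0, 4, 1, 4, 0, 2, 0, 3, 1, 5, 0, 5, 1, 1, 4, 4, 4], 1),
   ([1, 1, 2, 2, 1, 1, 2, 2, 4, 3, 3, 0, 0, 3, 3, 0, 0, 5], 1),
   ([3, 1, 2, 1, 2, 1, 2, 2, 4, 3, 3, 0, 3, 0, 3, 0, 2, 5], 1),
   ([1, 4, 0, 4, 2, 2, 2, 2, 4, 3, 3, 3, 3, 5, 1, 5, 0, 4], 1),
   ([2, 0, 4, 1, 1, 1, 5, 2, 4, 0, 0, 0, 5, 1, 3, 1, 1, 1], 1),
   ([1, 1, 5, 1, 1, 4, 0, 5, 2, 4, 1, 5, 0, 0, 4, 0, 0, 5], 1),
   ([0, 4, 0, 4, 0, 2, 1, 1, 2, 0, 0, 3, 1, 5, 1, 5, 1, 5, 5], 1),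
   ([3, 3, 4, 0, 5, 2, 2, 1, 2, 0, 3, 3, 4, 1, 5, 2, 2, 0, 0], 1),
   ([0, 4, 0, 4, 0, 3, 0, 0, 2, 1, 1, 2, 1, 5, 1, 5, 1, 5, 5], 1),
   ([0, 2, 1, 5, 1, 5, 0, 0, 2, 1, 1, 4, 0, 4, 0, 3, 1, 5, 5], 1),
   ([0, 3, 4, 1, 2, 0, 3, 4, 1, 2, 0, 5, 2, 1, 3, 0, 5, 2, 1, 3], 1),
   ([4, 2, 1, 1, 2, 5, 0, 0, 0, 2, 1, 1, 1, 4, 3, 0, 0, 3, 5, 1], 1),
   ([0, 4, 1, 3, 4, 2, 0, 4, 0, 2, 1, 5, 1, 3, 5, 2, 0, 5, 1, 5], 1),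
   ([1, 3, 4, 1, 3, 5, 0, 4, 0, 2, 1, 5, 1, 4, 2, 0, 5, 2, 0, 3], 1),
   ([5, 2, 1, 3, 0, 5, 2, 1, 3, 0, 2, 0, 3, 4, 1, 2, 0, 3, 4, 1], 1),
   ([1, 2, 2, 4, 0, 3, 3, 1, 2, 0, 3, 0, 2, 2, 1, 5, 3, 3, 0, 2], 1),
   ([5, 2, 1, 3, 4, 3, 3, 1, 5, 0, 4, 0, 2, 2, 5, 2, 0, 3, 4, 0], 1),
   ([5, 1, 5, 1, 5, 1, 5, 1, 5, 0, 4, 0, 4, 0, 4, 0, 4, 0, 4, 1], 1),
   ([0, 4, 3, 0, 3, 1, 2, 0, 5, 0, 4, 1, 3, 0, 2, 1, 2, 5, 1, 3], 1),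
   ([1, 1, 1, 4, 3, 0, 0, 3, 5, 0, 4, 2, 1, 1, 2, 5, 0, 0, 0, 3], 1),
   ([4, 4, 0, 4, 7, 5, 1, 1, 4, 0, 0, 4, 6, 5, 1, 5, 5, 2], 1),
   ([0, 4, 7, 0, 5, 6, 1, 1, 6, 0, 0, 7, 4, 1, 6, 5, 1, 7], 1),
   ([0, 0, 3, 0, 3, 0, 3, 1, 6, 0, 2, 1, 2, 1, 2, 1, 1, 7], 1),
   ([7, 2, 5, 6, 3, 0, 3, 1, 2, 0, 2, 1, 2, 7, 4, 3, 6, 1], 1),
   ([0, 6, 1, 4, 7, 0, 5, 1, 4, 0, 4, 1, 6, 5, 0, 7, 1, 5], 1),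
   ([2, 4, 0, 7, 2, 1, 6, 0, 2, 1, 7, 0, 3, 6, 1, 5, 3, 1], 1),
   ([1, 1, 4, 7, 0, 5, 6, 0, 4, 1, 7, 4, 1, 6, 5, 0, 0, 5], 1),
   ([2, 4, 7, 0, 5, 6, 1, 3, 6, 2, 0, 7, 4, 1, 6, 5, 3, 7], 1),
   ([6, 2, 0, 2, 0, 7, 2, 2, 0, 3, 3, 6, 1, 3, 1, 3, 7, 3], 1),
   ([3, 0, 5, 6, 1, 4, 7, 2, 0, 3, 6, 5, 0, 7, 4, 1, 2, 1], 1),
   ([3, 0, 5, 6, 1, 4, 7, 2, 4, 3, 6, 5, 0, 7, 4, 1, 2, 5], 1),
   ([3, 5, 0, 7, 4, 1, 6, 2, 6, 3, 7, 0, 5, 6, 1, 4, 2, 7], 1),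
   ([3, 1, 4, 7, 0, 5, 6, 2, 0, 3, 7, 4, 1, 6, 5, 0, 2, 1], 1),
   ([3, 1, 4, 7, 0, 5, 6, 2, 4, 3, 7, 4, 1, 6, 5, 0, 2, 5], 1),
   ([3, 1, 4, 7, 0, 5, 6, 2, 6, 3, 7, 4, 1, 6, 5, 0, 2, 7], 1),
   ([4, 6, 5, 0, 7, 4, 1, 5, 6, 4, 0, 5, 6, 1, 4, 7, 5, 7], 1),
   ([4, 3, 0, 3, 0, 3, 0, 5, 6, 4, 1, 2, 1, 2, 1, 2, 5, 7], 1),
   ([4, 7, 4, 1, 6, 5, 0, 5, 0, 4, 1, 4, 7, 0, 5, 6, 5, 1], 1),
   ([4, 7, 4, 1, 6, 5, 0, 5, 6, 4, 1, 4, 7, 0, 5, 6, 5, 7], 1),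
   ([0, 6, 0, 2, 6, 4, 4, 1, 4, 0, 5, 5, 7, 3, 1, 7, 1, 2, 2], 1),
   ([6, 4, 1, 6, 4, 7, 1, 5, 6, 4, 0, 6, 5, 7, 0, 5, 7, 5, 5], 1),
   ([5, 0, 6, 2, 2, 4, 2, 5, 2, 4, 3, 5, 3, 3, 7, 1, 4, 3, 3], 1),
   ([2, 0, 5, 5, 6, 1, 3, 7, 0, 2, 1, 6, 2, 0, 7, 4, 4, 1, 3, 1], 1),
   ([2, 1, 6, 0, 7, 2, 1, 6, 0, 6, 1, 7, 0, 3, 6, 1, 7, 0, 3, 7], 1),
   ([2, 4, 7, 2, 6, 2, 4, 7, 2, 6, 3, 6, 5, 3, 7, 3, 6, 5, 3, 7], 1),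
   ([6, 5, 2, 0, 2, 2, 1, 6, 2, 4, 3, 7, 0, 3, 3, 1, 3, 4, 7, 0], 1),
   ([2, 2, 1, 7, 0, 3, 6, 1, 5, 2, 4, 0, 7, 2, 1, 6, 0, 3, 3, 1], 1),
   ([2, 1, 6, 2, 1, 1, 2, 4, 6, 0, 7, 5, 3, 0, 0, 3, 7, 0, 3, 5], 1),
   ([0, 1], 1),
   ([1, 0], 1),
   ([2, 3], 1),
   ([3, 2], 1),
   ([4, 5], 1),
   ([5, 4], 1),
   ([6, 7], 1),
   ([7, 6], 1),
   ([], 1)]

theorem hspecs : baseL = specs.map (fun s => wpow s.1 s.2) := by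
  decide +kernel

theorem hfixall : Fn.FixAll TT tN specs :=
  Fn.fixAll_cons (Fn.fix_of_marksK hm0)
    (Fn.fixAll_cons (Fn.fix_of_marksK hm1)
    (Fn.fixAll_cons (Fn.fix_of_marksK hm2)
    (Fn.fixAll_cons (Fn.fix_of_marksK hm3)
    (Fn.fixAll_cons (Fn.fix_of_marksK hm4)
    (Fn.fixAll_cons (Fn.fix_of_marksK hm5)
    (Fn.fixAll_cons (Fn.fix_of_marksK hm6)
    (Fn.fixAll_cons (Fn.fix_of_marksK hm7)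
    (Fn.fixAll_cons (Fn.fix_of_marksK hm8)
    (Fn.fixAll_cons (Fn.fix_of_marksK hm9)
    (Fn.fixAll_cons (Fn.fix_of_marksK hm10)
    (Fn.fixAll_cons (Fn.fix_of_marksK hm11)
    (Fn.fixAll_cons (Fn.fix_of_marksK hm12)
    (Fn.fixAll_cons (Fn.fix_of_marksK hm13)
    (Fn.fixAll_cons (Fn.fix_of_marksK hm14)
    (Fn.fixAll_cons (Fn.fix_of_marksK hm15)
    (Fn.fixAll_cons (Fn.fix_of_marksK hm16)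
    (Fn.fixAll_cons (Fn.fix_of_marksK hm17)
    (Fn.fixAll_cons (Fn.fix_of_marksK hm18)
    (Fn.fixAll_cons (Fn.fix_of_marksK hm19)
    (Fn.fixAll_cons (Fn.fix_of_marksK hm20)
    (Fn.fixAll_cons (Fn.fix_of_marksK hm21)
    (Fn.fixAll_cons (Fn.fix_of_marksK hm22)
    (Fn.fixAll_cons (Fn.fix_of_marksK hm23)
    (Fn.fixAll_cons (Fn.fix_of_marksK hm24)
    (Fn.fixAll_cons (Fn.fix_of_marksK hm25)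
    (Fn.fixAll_cons (Fn.fix_of_marksK hm26)
    (Fn.fixAll_cons (Fn.fix_of_marksK hm27)
    (Fn.fixAll_cons (Fn.fix_of_marksK hm28)
    (Fn.fixAll_cons (Fn.fix_of_marksK hm29)
    (Fn.fixAll_cons (Fn.fix_of_marksK hm30)
    (Fn.fixAll_cons (Fn.fix_of_marksK hm31)
    (Fn.fixAll_cons (Fn.fix_of_marksK hm32)
    (Fn.fixAll_cons (Fn.fix_of_marksK hm33)
    (Fn.fixAll_cons (Fn.fix_of_marksK hm34)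
    (Fn.fixAll_cons (Fn.fix_of_marksK hm35)
    (Fn.fixAll_cons (Fn.fix_of_marksK hm36)
    (Fn.fixAll_cons (Fn.fix_of_marksK hm37)
    (Fn.fixAll_cons (Fn.fix_of_marksK hm38)
    (Fn.fixAll_cons (Fn.fix_of_marksK hm39)
    (Fn.fixAll_cons (Fn.fix_of_marksK hm40)
    (Fn.fixAll_cons (Fn.fix_of_marksK hm41)
    (Fn.fixAll_cons (Fn.fix_of_marksK hm42)
    (Fn.fixAll_cons (Fn.fix_of_marksK hm43)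
    (Fn.fixAll_cons (Fn.fix_of_marksK hm44)
    (Fn.fixAll_cons (Fn.fix_of_marksK hm45)
    (Fn.fixAll_cons (Fn.fix_of_marksK hm46)
    (Fn.fixAll_cons (Fn.fix_of_marksK hm47)
    (Fn.fixAll_cons (Fn.fix_of_marksK hm48)
    (Fn.fixAll_cons (Fn.fix_of_marksK hm49)
    (Fn.fixAll_cons (Fn.fix_of_marksK hm50)
    (Fn.fixAll_cons (Fn.fix_of_marksK hm51)
    (Fn.fixAll_cons (Fn.fix_of_marksK hm52)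
    (Fn.fixAll_cons (Fn.fix_of_marksK hm53)
    (Fn.fixAll_cons (Fn.fix_of_marksK hm54)
    (Fn.fixAll_cons (Fn.fix_of_marksK hm55)
    (Fn.fixAll_cons (Fn.fix_of_marksK hm56)
    (Fn.fixAll_cons (Fn.fix_of_marksK hm57)
    (Fn.fixAll_cons (Fn.fix_of_marksK hm58)
    (Fn.fixAll_cons (Fn.fix_of_marksK hm59)
    (Fn.fixAll_cons (Fn.fix_of_marksK hm60)
    (Fn.fixAll_cons (Fn.fix_of_marksK hm61)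
    (Fn.fixAll_cons (Fn.fix_of_marksK hm62)
    (Fn.fixAll_cons (Fn.fix_of_marksK hm63)
    (Fn.fixAll_cons (Fn.fix_of_marksK hm64)
    (Fn.fixAll_cons (Fn.fix_of_marksK hm65)
    (Fn.fixAll_cons (Fn.fix_of_marksK hm66)
    (Fn.fixAll_cons (Fn.fix_of_marksK hm67)
    (Fn.fixAll_cons (Fn.fix_of_marksK hm68)
    (Fn.fixAll_cons (Fn.fix_of_marksK hm69)
    (Fn.fixAll_cons (Fn.fix_of_marksK hm70)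
    (Fn.fixAll_cons (Fn.fix_of_marksK hm71)
    (Fn.fixAll_cons (Fn.fix_of_marksK hm72)
    (Fn.fixAll_cons (Fn.fix_of_marksK hm73)
    (Fn.fixAll_cons (Fn.fix_of_marksK hm74)
    (Fn.fixAll_cons (Fn.fix_of_marksK hm75)
    (Fn.fixAll_cons (Fn.fix_of_marksK hm76)
    (Fn.fixAll_cons (Fn.fix_of_marksK hm77)
    (Fn.fixAll_cons (Fn.fix_of_marksK hm78)
    (Fn.fixAll_cons (Fn.fix_of_marksK hm79)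
    (Fn.fixAll_cons (Fn.fix_of_marksK hm80)
    (Fn.fixAll_cons (Fn.fix_of_marksK hm81)
    (Fn.fixAll_cons (Fn.fix_of_marksK hm82)
    (Fn.fixAll_cons (Fn.fix_of_marksK hm83)
    (Fn.fixAll_cons (Fn.fix_of_marksK hm84)
    (Fn.fixAll_cons (Fn.fix_of_marksK hm85)
    (Fn.fixAll_cons (Fn.fix_of_marksK hm86)
    (Fn.fixAll_cons (Fn.fix_of_marksK hm87)
    (Fn.fixAll_cons (Fn.fix_of_marksK hm88)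
    (Fn.fixAll_nil TT tN)))))))))))))))))))))))))))))))))))))))))))))))))))))))))))))))))))))))))))))))))))))))))

theorem hrels : Fn.relsK TT cN baseL = true := by
  rw [hspecs]
  exact Fn.relsK_of_fixAll hfixall

theorem hsub : Fn.subK TT 8 sw = true := by decide +kernel

theorem htrans : Fn.transK TT 8 cN sw = true := by decide +kernel

end Cfsg.Agent.Lib.Helper12.TCG.SuzQc416
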